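import Cfsg.Agent.Lib.Struct.NormalElementary
import Mathlib.GroupTheory.PGroup
import Mathlib.GroupTheory.SpecificGroups.Cyclic
import Mathlib.Algebra.BigOperators.GroupWithZero.Action
import Cfsg.Agent.Lib.Char.CyclicTI

/-!
A `p`-group, `p` odd, of linear maps whose stabilisers of non-zero vectors all have the same order is
cyclic and acts without fixed points (Passman).
-/

set_option autoImplicit false

namespace Cfsg.Agent.Recog.HalfTrans

variable {P E : Type*} [Group P] [Finite P] [AddCommGroup E] [Finite E] [DistribMulAction P E]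

theorem eq_zero_of_coprime {q n : ℕ} (hE : ∀ e : E, q • e = 0) (hn : n.Coprime q) {e : E} (h : n • e = 0) :
    e = 0 :=
  AddMonoid.addOrderOf_eq_one_iff.1 (Nat.eq_one_of_dvd_coprimes hn (addOrderOf_dvd_of_nsmul_eq_zero h)
    (addOrderOf_dvd_of_nsmul_eq_zero (hE e)))

/-- The sum over the elements of a subgroup. -/
noncomputable def proj (B : Subgroup P) (x : E) : E :=
  letI := Fintype.ofFinite B
  ∑ b : B, (b : P) • x

theorem smul_proj {B : Subgroup P} {b : P} (hb : b ∈ B) (x : E) : b • proj B x = proj B x := by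
  classical
  unfold proj
  letI := Fintype.ofFinite B
  rw [Finset.smul_sum]
  exact Fintype.sum_equiv (Equiv.mulLeft (⟨b, hb⟩ : B)) _ _ fun c => (mul_smul b (c : P) x).symm

theorem proj_fixed {B : Subgroup P} {x : E} (h : ∀ b ∈ B, b • x = x) : proj B x = Nat.card B • x := by
  classical
  unfold proj
  letI := Fintype.ofFinite B
  rw [Finset.sum_congr rfl (fun (b : B) _ => h (b : P) b.2), Finset.sum_const, Finset.card_univ, Nat.card_eq_fintype_card]

theorem proj_add (B : Subgroup P) (x y : E) : proj B (x + y) = proj B x + proj B y := by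
  unfold proj
  letI := Fintype.ofFinite B
  simp only [smul_add, Finset.sum_add_distrib]

theorem proj_zero (B : Subgroup P) : proj B (0 : E) = 0 := by
  unfold proj; simp

theorem proj_nsmul (B : Subgroup P) (n : ℕ) (x : E) : proj B (n • x) = n • proj B x := by
  induction n with
  | zero => simp [proj_zero]
  | succ n ih => rw [succ_nsmul, proj_add, ih, succ_nsmul]

theorem proj_comm {B : Subgroup P} {g : P} (hg : ∀ b ∈ B, g * b * g⁻¹ ∈ B) (x : E) :
    g • proj B x = proj B (g • x) := by
  classical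
  unfold proj
  letI := Fintype.ofFinite B
  rw [Finset.smul_sum]
  let f : B → B := fun b => ⟨g * b * g⁻¹, hg b b.2⟩
  have hinj : Function.Injective f := fun b c h =>
    Subtype.ext (mul_left_cancel (mul_right_cancel (congrArg Subtype.val h)))
  refine Fintype.sum_equiv (Equiv.ofBijective f (Finite.injective_iff_bijective.1 hinj)) _ _ fun b => ?_
  show g • (b : P) • x = (g * b * g⁻¹) • g • x
  rw [← mul_smul, ← mul_smul, inv_mul_cancel_right]

theorem eq_bot_of_forall_fixed [FaithfulSMul P E] {B : Subgroup P} (h : ∀ b ∈ B, ∀ e : E, b • e = e) : B = ⊥ :=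
  (Subgroup.eq_bot_iff_forall B).2 fun b hb => eq_of_smul_eq_smul fun e : E => by rw [h b hb e, one_smul]

variable [FaithfulSMul P E] {p q : ℕ} [Fact p.Prime]
  (hP : IsPGroup p P) (hpq : p.Coprime q) (hE : ∀ e : E, q • e = 0)
  (hconst : ∀ a b : E, a ≠ 0 → b ≠ 0 →
    Nat.card (MulAction.stabilizer P a) = Nat.card (MulAction.stabilizer P b))
include hP hpq hE hconst

theorem coprime_card (B : Subgroup P) : (Nat.card B).Coprime q := by
  obtain ⟨i, hi⟩ := (hP.to_subgroup B).exists_card_eq
  rw [hi]; exact hpq.pow_left i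

omit hP hpq hE in
theorem stab_eq_of_le {a b : E} (ha : a ≠ 0) (hb : b ≠ 0)
    (h : MulAction.stabilizer P a ≤ MulAction.stabilizer P b) :
    MulAction.stabilizer P a = MulAction.stabilizer P b :=
  Subgroup.eq_of_le_of_card_ge h (hconst a b ha hb).ge

/-- A non-trivial normal subgroup fixes no non-zero vector. -/
theorem normal_fixed_zero {B : Subgroup P} (hB : B.Normal) (hne : B ≠ ⊥) {a : E}
    (ha : ∀ b ∈ B, b • a = a) : a = 0 := by
  by_contra ha0
  obtain ⟨x, hx⟩ : ∃ x : E, ¬ ∀ b ∈ B, b • x = x := by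
    by_contra h
    simp only [not_exists, not_not] at h
    exact hne (eq_bot_of_forall_fixed fun b hb e => h e b hb)
  have hn := coprime_card hP hpq hE hconst B
  set c := Nat.card B • x - proj B x with hc
  have hpc : proj B c = 0 := by
    have h := proj_add B c (proj B x)
    rw [hc, sub_add_cancel, ← hc, proj_fixed (fun b hb => smul_proj hb x), proj_nsmul] at h
    exact add_right_cancel (h.symm.trans (zero_add _).symm)
  have hc0 : c ≠ 0 := fun e => hx fun b hb => by
    have h : Nat.card B • x = proj B x := sub_eq_zero.1 e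
    exact sub_eq_zero.1 (eq_zero_of_coprime hE hn (by
      rw [nsmul_sub, ← smul_comm b (Nat.card B) x, h, smul_proj hb, sub_self]))
  have hac : a + c ≠ 0 := fun e => ha0 (eq_zero_of_coprime hE hn (by
    have h := congrArg (proj B) e
    rwa [proj_add, proj_fixed ha, hpc, add_zero, proj_zero] at h))
  have hle : ∀ g ∈ MulAction.stabilizer P (a + c), g • a = a ∧ g • c = c := by
    intro g hg
    rw [MulAction.mem_stabilizer_iff] at hg
    have h1 : g • proj B (a + c) = proj B (a + c) := by
      rw [proj_comm (fun b hb => hB.conj_mem b hb g), hg]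
    rw [proj_add, proj_fixed ha, hpc, add_zero, smul_comm g (Nat.card B) a] at h1
    have h2 : g • a = a := sub_eq_zero.1 (eq_zero_of_coprime hE hn (by rw [nsmul_sub, h1, sub_self]))
    refine ⟨h2, ?_⟩
    rw [smul_add, h2] at hg
    exact add_left_cancel hg
  have e1 := stab_eq_of_le hconst hac ha0 (fun g hg => (hle g hg).1)
  have hfix : ∀ b ∈ B, b • c = c := fun b hb =>
    (hle b (by rw [e1]; exact ha b hb)).2
  exact hc0 (eq_zero_of_coprime hE hn (by rw [← proj_fixed hfix, hpc]))

theorem not_fixed_in_normal_elementary {A : Subgroup P} (hA : A.Normal) (hcard : Nat.card A = p ^ 2)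
    (hcomm : ∀ a ∈ A, ∀ b ∈ A, a * b = b * a) (hexp : ∀ a ∈ A, a ^ p = 1) (hodd : p ≠ 2)
    {v : P} (hv : v ∈ A) (hv1 : v ≠ 1) {a : E} (ha : v • a = a) : a = 0 := by
  by_contra ha0
  have hp : p.Prime := Fact.out
  have hAne : A ≠ ⊥ := fun e => by rw [e, Subgroup.card_bot] at hcard; nlinarith [hp.two_le]
  set B := Subgroup.zpowers v
  have hBA : B ≤ A := Subgroup.zpowers_le.2 hv
  have hBcard : Nat.card B = p := by rw [Nat.card_zpowers, orderOf_eq_prime (hexp v hv) hv1]
  have hBfix : ∀ b ∈ B, b • a = a := fun b hb =>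
    MulAction.mem_stabilizer_iff.1 (Subgroup.zpowers_le.2 (MulAction.mem_stabilizer_iff.2 ha) hb)
  have hBne : B ≠ ⊥ := fun e => hv1 (Subgroup.zpowers_eq_bot.1 e)
  obtain ⟨g, hg⟩ : ∃ g : P, g * v * g⁻¹ ∉ B := by
    by_contra h
    simp only [not_exists, not_not] at h
    refine ha0 (normal_fixed_zero hP hpq hE hconst (B := B) ⟨fun b hb g => ?_⟩ hBne hBfix)
    obtain ⟨i, rfl⟩ := Subgroup.mem_zpowers_iff.1 hb
    rw [← conj_zpow]
    exact Subgroup.zpow_mem _ (h g) i
  set v' := g * v * g⁻¹ with hv'def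
  have hv' : v' ∈ A := hA.conj_mem v hv g
  have hv'1 : v' ≠ 1 := fun e => hv1 (conj_eq_one_iff.1 e)
  have ha' : v' • g • a = g • a := by rw [hv'def, mul_smul, mul_smul, inv_smul_smul, ha]
  have hkey : ∀ w w' : P, w ∈ A → w ≠ 1 → w' ∈ A → w' ∉ Subgroup.zpowers w → ∀ e : E, w' • e = e →
      proj (Subgroup.zpowers w) e = 0 := by
    intro w w' hw hw1 hw' hnot e he
    have hsup : Subgroup.zpowers w ⊔ Subgroup.zpowers w' = A := by
      refine Subgroup.eq_of_le_of_card_ge (sup_le (Subgroup.zpowers_le.2 hw) (Subgroup.zpowers_le.2 hw')) ?_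
      obtain ⟨i, hi, hic⟩ := (Nat.dvd_prime_pow hp).1 (hcard ▸ Subgroup.card_dvd_of_le
        (sup_le (Subgroup.zpowers_le.2 hw) (Subgroup.zpowers_le.2 hw')))
      have hlt : Nat.card (Subgroup.zpowers w) < Nat.card ↥(Subgroup.zpowers w ⊔ Subgroup.zpowers w') := by
        by_contra hh
        exact hnot (by
          have := Subgroup.eq_of_le_of_card_ge le_sup_left (not_lt.1 hh)
          rw [this]; exact Subgroup.mem_sup_right (Subgroup.mem_zpowers w'))
      rw [Nat.card_zpowers, orderOf_eq_prime (hexp w hw) hw1, hic] at hlt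
      rw [hcard, hic]
      rcases Nat.lt_or_ge i 2 with h | h
      · exfalso
        have : p ^ i ≤ p ^ 1 := Nat.pow_le_pow_right hp.pos (by omega)
        rw [pow_one] at this; omega
      · exact Nat.pow_le_pow_right hp.pos h
    have hfix : A ≤ MulAction.stabilizer P (proj (Subgroup.zpowers w) e) := by
      rw [← hsup]
      refine sup_le (fun b hb => smul_proj hb e) (Subgroup.zpowers_le.2 ?_)
      rw [MulAction.mem_stabilizer_iff, proj_comm (fun b hb => ?_), he]
      rwa [← hcomm b (Subgroup.zpowers_le.2 hw hb) w' hw', mul_inv_cancel_right]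
    exact normal_fixed_zero hP hpq hE hconst hA hAne (fun b hb => hfix hb)
  have hnot' : v ∉ Subgroup.zpowers v' := fun h => hg (by
    have : Subgroup.zpowers v = Subgroup.zpowers v' := Subgroup.eq_of_le_of_card_ge (Subgroup.zpowers_le.2 h)
      (by rw [Nat.card_zpowers, Nat.card_zpowers, orderOf_eq_prime (hexp v hv) hv1, orderOf_eq_prime (hexp v' hv') hv'1])
    show v' ∈ Subgroup.zpowers v
    rw [this]; exact Subgroup.mem_zpowers v')
  have hp0 : (Nat.card B).Coprime q := by rw [hBcard]; exact hpq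
  have hpr : proj B (a + g • a) = p • a := by
    rw [proj_add, hkey v v' hv hv1 hv' hg _ ha', add_zero, proj_fixed hBfix, hBcard]
  have hpr' : proj (Subgroup.zpowers v') (a + g • a) = p • (g • a) := by
    rw [proj_add, hkey v' v hv' hv'1 hv hnot' _ ha, zero_add, proj_fixed (fun b hb =>
      MulAction.mem_stabilizer_iff.1 (Subgroup.zpowers_le.2 (MulAction.mem_stabilizer_iff.2 ha') hb)),
      Nat.card_zpowers, orderOf_eq_prime (hexp v' hv') hv'1]
  have hga0 : g • a ≠ 0 := fun e => ha0 (by rw [← inv_smul_smul g a, e, smul_zero])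
  have hpa : p • a ≠ 0 := fun e => ha0 (eq_zero_of_coprime hE hpq e)
  have hsum : a + g • a ≠ 0 := fun e => hpa (by rw [← hpr, e, proj_zero])
  have hle : ∀ x ∈ MulAction.stabilizer P (a + g • a), x • a = a ∧ x • g • a = g • a := by
    intro x hx
    rw [MulAction.mem_stabilizer_iff] at hx
    have hxv : x * v * x⁻¹ ∈ A := hA.conj_mem v hv x
    have hxv' : x * v' * x⁻¹ ∈ A := hA.conj_mem v' hv' x
    have f1 : (x * v * x⁻¹) • x • a = x • a := by rw [mul_smul, mul_smul, inv_smul_smul, ha]
    have f2 : (x * v' * x⁻¹) • x • g • a = x • g • a := by rw [mul_smul, mul_smul, inv_smul_smul, ha']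
    have hdis : ∀ w : P, w ∈ A → w ≠ 1 → x * v * x⁻¹ ∈ Subgroup.zpowers w → x * v' * x⁻¹ ∉ Subgroup.zpowers w := by
      intro w hw hw1 h1 h2
      apply hg
      have h3 : Subgroup.zpowers (x * v * x⁻¹) = Subgroup.zpowers w :=
        Subgroup.eq_of_le_of_card_ge (Subgroup.zpowers_le.2 h1) (by
          rw [Nat.card_zpowers, Nat.card_zpowers, orderOf_eq_prime (hexp w hw) hw1,
            orderOf_eq_prime (hexp _ hxv) (fun e => hv1 (conj_eq_one_iff.1 e))])
      rw [← h3] at h2
      obtain ⟨i, hi⟩ := Subgroup.mem_zpowers_iff.1 h2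
      rw [conj_zpow] at hi
      show v' ∈ Subgroup.zpowers v
      rw [← mul_left_cancel (mul_right_cancel hi)]
      exact Subgroup.zpow_mem _ (Subgroup.mem_zpowers v) i
    have hor : ∀ w : P, w ∈ A → w ≠ 1 → proj (Subgroup.zpowers w) (a + g • a) ≠ 0 →
        x * v * x⁻¹ ∈ Subgroup.zpowers w ∨ x * v' * x⁻¹ ∈ Subgroup.zpowers w := by
      intro w hw hw1 hne
      by_contra h
      rw [not_or] at h
      apply hne
      rw [← hx, smul_add, proj_add, hkey w _ hw hw1 hxv h.1 _ f1, hkey w _ hw hw1 hxv' h.2 _ f2, add_zero]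
    have hfirst : x * v * x⁻¹ ∈ B := by
      rcases hor v hv hv1 (by rw [hpr]; exact hpa) with h | h
      · exact h
      rcases hor v' hv' hv'1 (by rw [hpr']; exact fun e => hga0 (eq_zero_of_coprime hE hpq e)) with h' | h'
      · -- `x` would interchange the two subgroups
        have hx2 : x * x * v * (x * x)⁻¹ ∈ B := by
          obtain ⟨i, hi⟩ := Subgroup.mem_zpowers_iff.1 h'
          have : x * x * v * (x * x)⁻¹ = x * (x * v * x⁻¹) * x⁻¹ := by group
          rw [this, ← hi, ← conj_zpow]
          exact Subgroup.zpow_mem _ h i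
        obtain ⟨j, hj⟩ : Odd (orderOf x) := by
          obtain ⟨i, hi⟩ := hP x
          obtain ⟨m, -, hm⟩ := (Nat.dvd_prime_pow hp).1 (orderOf_dvd_of_pow_eq_one hi)
          rw [hm]; exact (hp.odd_of_ne_two hodd).pow
        have hxj : x = (x * x) ^ (j + 1) := by
          rw [← pow_two, ← pow_mul, show 2 * (j + 1) = orderOf x + 1 by omega, pow_succ, pow_orderOf_eq_one, one_mul]
        have hnorm : ∀ n : ℕ, (x * x) ^ n * v * ((x * x) ^ n)⁻¹ ∈ B := by
          intro n
          induction n with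
          | zero => rw [pow_zero, one_mul, inv_one, mul_one]; exact Subgroup.mem_zpowers v
          | succ n ih =>
            obtain ⟨i, hi⟩ := Subgroup.mem_zpowers_iff.1 ih
            have : (x * x) ^ (n + 1) * v * ((x * x) ^ (n + 1))⁻¹ =
                (x * x) * ((x * x) ^ n * v * ((x * x) ^ n)⁻¹) * (x * x)⁻¹ := by simp only [pow_succ', mul_inv_rev, mul_assoc]
            rw [this, ← hi, ← conj_zpow]
            exact Subgroup.zpow_mem _ hx2 i
        rw [hxj]; exact hnorm _
      · exact absurd h (fun h => hdis v hv hv1 (by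
          have e : Subgroup.zpowers (x * v' * x⁻¹) = Subgroup.zpowers v' :=
            Subgroup.eq_of_le_of_card_ge (Subgroup.zpowers_le.2 h') (by
              rw [Nat.card_zpowers, Nat.card_zpowers, orderOf_eq_prime (hexp v' hv') hv'1,
                orderOf_eq_prime (hexp _ hxv') (fun e => hv'1 (conj_eq_one_iff.1 e))])
          exact absurd (by
            show v' ∈ Subgroup.zpowers v
            exact Subgroup.zpowers_le.2 h (e ▸ Subgroup.mem_zpowers v')) hg) h)
    have h1 : x • a = a := by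
      have e : proj B (x • a + x • g • a) = p • a := by rw [← smul_add, hx, hpr]
      rw [proj_add, hkey v _ hv hv1 hxv' (hdis v hv hv1 hfirst) _ f2, add_zero, proj_fixed (fun b hb => ?_), hBcard] at e
      · exact sub_eq_zero.1 (eq_zero_of_coprime hE hpq (by rw [nsmul_sub, e, sub_self]))
      · have e' : Subgroup.zpowers (x * v * x⁻¹) = B := Subgroup.eq_of_le_of_card_ge (Subgroup.zpowers_le.2 hfirst)
          (by rw [hBcard, Nat.card_zpowers, orderOf_eq_prime (hexp _ hxv) (fun e => hv1 (conj_eq_one_iff.1 e))])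
        rw [← e'] at hb
        exact MulAction.mem_stabilizer_iff.1 (Subgroup.zpowers_le.2 (MulAction.mem_stabilizer_iff.2 f1) hb)
    refine ⟨h1, ?_⟩
    rw [smul_add, h1] at hx
    exact add_left_cancel hx
  have e1 := stab_eq_of_le hconst hsum ha0 (fun x hx => (hle x hx).1)
  have hva' : v • g • a = g • a := (hle v (by rw [e1]; exact MulAction.mem_stabilizer_iff.2 ha)).2
  refine hga0 (eq_zero_of_coprime hE hpq ?_)
  rw [← hpr', proj_add, hkey v' v hv' hv'1 hv hnot' _ ha, hkey v' v hv' hv'1 hv hnot' _ hva', add_zero]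

omit hP hpq hE in
theorem fixed_point_free_of_cyclic [IsCyclic P] {g : P} (hg : g ≠ 1) {a : E} (h : g • a = a) : a = 0 := by
  by_contra ha
  refine hg (eq_of_smul_eq_smul fun e : E => ?_)
  rw [one_smul]
  by_cases he : e = 0
  · rw [he, smul_zero]
  · have heq : MulAction.stabilizer P a = MulAction.stabilizer P e := by
      exact Cfsg.Agent.Char.eq_of_card_eq_of_cyclic (hconst a e ha he)
    exact MulAction.mem_stabilizer_iff.1 (heq ▸ MulAction.mem_stabilizer_iff.2 h)

theorem isCyclic (hodd : p ≠ 2) (hne : ∃ e : E, e ≠ 0) : IsCyclic P := by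
  classical
  by_contra hnc
  obtain ⟨A, hA, hcard, hcomm, hexp⟩ := Cfsg.Agent.Struct.exists_normal_elementary hP hodd hnc
  have hp : p.Prime := Fact.out
  have hno := @not_fixed_in_normal_elementary P E _ _ _ _ _ _ p q _ hP hpq hE hconst A hA hcard hcomm hexp hodd
  obtain ⟨u, hu, hu1⟩ : ∃ u ∈ A, u ≠ 1 := by
    by_contra h
    simp only [not_exists, not_and, not_not] at h
    rw [(Subgroup.eq_bot_iff_forall A).2 h, Subgroup.card_bot] at hcard
    nlinarith [hp.two_le]
  obtain ⟨v, hv, hvu⟩ : ∃ v ∈ A, v ∉ Subgroup.zpowers u := by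
    by_contra h
    simp only [not_exists, not_and, not_not] at h
    have := Nat.le_of_dvd Nat.card_pos (Subgroup.card_dvd_of_le (H := A) h)
    rw [hcard, Nat.card_zpowers, orderOf_eq_prime (hexp u hu) hu1] at this
    nlinarith [hp.two_le]
  obtain ⟨x, hx⟩ := hne
  haveI : NeZero p := ⟨hp.ne_zero⟩
  have hz : ∀ w ∈ A, w ≠ 1 → (∑ i : ZMod p, w ^ i.val • x) = 0 := fun w hw hw1 => hno hw hw1 (by
    rw [Finset.smul_sum]
    refine Fintype.sum_equiv (Equiv.addRight (1 : ZMod p)) _ _ fun i => ?_
    show w • w ^ i.val • x = w ^ (i + 1).val • x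
    rw [← mul_smul, ← pow_succ']
    congr 1
    rw [ZMod.val_add, pow_eq_pow_mod (i.val + 1) (hexp w hw), ZMod.val_one_eq_one_mod, Nat.add_mod_mod])
  have hsum : ∀ i : ZMod p, (∑ j : ZMod p, (v * u ^ i.val) ^ j.val • x) = 0 := fun i => hz _
    (mul_mem hv (pow_mem hu _)) (fun e => hvu (by
      rw [eq_inv_of_mul_eq_one_left e]; exact inv_mem (pow_mem (Subgroup.mem_zpowers u) _)))
  have htot : (∑ j : ZMod p, ∑ i : ZMod p, (v * u ^ i.val) ^ j.val • x) = 0 := by
    rw [Finset.sum_comm]; exact Finset.sum_eq_zero fun i _ => hsum i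
  rw [Fintype.sum_eq_single 0 ?_] at htot
  · simp only [ZMod.val_zero, pow_zero, one_smul, Finset.sum_const, Finset.card_univ, ZMod.card] at htot
    exact hx (eq_zero_of_coprime hE hpq htot)
  · intro j hj
    have hc : ∀ i : ZMod p, (v * u ^ i.val) ^ j.val • x = v ^ j.val • u ^ (i * j).val • x := fun i => by
      rw [(Commute.mul_pow (hcomm v hv _ (pow_mem hu _))), mul_smul, ← pow_mul, ZMod.val_mul,
        ← pow_eq_pow_mod _ (hexp u hu)]
    have he := Fintype.sum_equiv (Equiv.mulRight₀ j hj) (fun i : ZMod p => u ^ (i * j).val • x)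
      (fun i : ZMod p => u ^ i.val • x) (fun i => rfl)
    rw [Finset.sum_congr rfl (fun i _ => hc i), ← Finset.smul_sum, he, hz u hu hu1, smul_zero]

end Cfsg.Agent.Recog.HalfTrans
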