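import Cfsg.Prelude.Def_LieRecognition

/-!
The split rank one set-up `(Q, D, t)`: regularity, uniqueness of the canonical form, and the
involutions.
-/

set_option autoImplicit false

namespace Cfsg.Agent.Recog

open Cfsg
open scoped Pointwise

variable {G Ω : Type*} [Group G] [MulAction G Ω] {a : Ω} {t : G} {Q : Subgroup G}
  (hS : IsRankOneSetup G Ω a t Q)
include hS

theorem t_inv : t⁻¹ = t := inv_eq_of_mul_eq_one_right hS.mul_self

theorem ta_ne : t • a ≠ a := fun e => hS.not_mem (MulAction.mem_stabilizer_iff.2 e)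

theorem tta : t • t • a = a := by rw [← mul_smul, hS.mul_self, one_smul]

theorem exists_mem_smul {b : Ω} (hb : b ≠ a) : ∃ h ∈ MulAction.stabilizer G a, h • b = t • a := by
  obtain ⟨g, h1, h2⟩ :=
    (MulAction.is_two_pretransitive_iff.1 hS.two_transitive) hb.symm (ta_ne hS).symm
  exact ⟨g, h1, h2⟩

theorem fixes_only {x : G} (hx : x ∈ Q) {b : Ω} (hb : b ≠ a) (e : x • b = b) : x = 1 := by
  obtain ⟨h, hh, hb'⟩ := exists_mem_smul hS hb
  have h1 : h * x * h⁻¹ ∈ Q ⊓ MulAction.stabilizer G (t • a) := by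
    refine Subgroup.mem_inf.2 ⟨hS.conj_mem h hh x hx, ?_⟩
    rw [MulAction.mem_stabilizer_iff, ← hb', ← mul_smul, inv_mul_cancel_right, mul_smul, e]
  rw [hS.inf_eq_bot, Subgroup.mem_bot] at h1
  exact conj_eq_one_iff.1 h1

theorem stab_eq : ∀ h ∈ MulAction.stabilizer G a, ∃ x ∈ Q,
    ∃ d ∈ MulAction.stabilizer G a ⊓ MulAction.stabilizer G (t • a), h = x * d := by
  intro h hh
  have hle : MulAction.stabilizer G a ⊓ MulAction.stabilizer G (t • a) ≤ Subgroup.normalizer (Q : Set G) := by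
    intro d hd
    rw [Subgroup.mem_normalizer_iff]
    intro y
    refine ⟨hS.conj_mem d hd.1 y, fun hy => ?_⟩
    have := hS.conj_mem d⁻¹ (inv_mem hd.1) _ hy
    rwa [show d⁻¹ * (d * y * d⁻¹) * d⁻¹⁻¹ = y by group] at this
  have h' : h ∈ ((Q ⊔ (MulAction.stabilizer G a ⊓ MulAction.stabilizer G (t • a)) : Subgroup G) : Set G) :=
    SetLike.mem_coe.2 (hS.sup_eq.ge hh)
  rw [Subgroup.coe_mul_of_right_le_normalizer_left _ _ hle] at h'
  obtain ⟨x, hx, d, hd, e⟩ := h'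
  exact ⟨x, hx, d, hd, e.symm⟩

theorem transitive_Q {b : Ω} (hb : b ≠ a) : ∃ x ∈ Q, x • (t • a) = b := by
  obtain ⟨h, hh, e⟩ := exists_mem_smul hS hb
  obtain ⟨x, hx, d, hd, ed⟩ := stab_eq hS h⁻¹ (inv_mem hh)
  refine ⟨x, hx, ?_⟩
  have e' : h⁻¹ • (t • a) = b := by rw [← e, inv_smul_smul]
  rw [ed, mul_smul, MulAction.mem_stabilizer_iff.1 hd.2] at e'
  exact e'

theorem regular {b c : Ω} (hb : b ≠ a) (hc : c ≠ a) : ∃! x : Q, (x : G) • b = c := by
  obtain ⟨x, hx, ex⟩ := transitive_Q hS hb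
  obtain ⟨y, hy, ey⟩ := transitive_Q hS hc
  refine ⟨⟨y * x⁻¹, mul_mem hy (inv_mem hx)⟩, ?_, ?_⟩
  · show (y * x⁻¹) • b = c
    rw [mul_smul, ← ex, inv_smul_smul, ey]
  · rintro ⟨z, hz⟩ (e : z • b = c)
    apply Subtype.ext
    show z = y * x⁻¹
    have h1 : (y * x⁻¹)⁻¹ * z = 1 := by
      refine fixes_only hS (mul_mem (inv_mem (mul_mem hy (inv_mem hx))) hz) hb ?_
      rw [mul_smul, e, inv_smul_eq_iff, mul_smul, ← ex, inv_smul_smul, ey]
    exact (inv_mul_eq_one.1 h1).symm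

theorem mem_D_conj {d : G} (hd : d ∈ MulAction.stabilizer G a ⊓ MulAction.stabilizer G (t • a)) :
    t * d * t ∈ MulAction.stabilizer G a ⊓ MulAction.stabilizer G (t • a) := by
  refine Subgroup.mem_inf.2 ⟨?_, ?_⟩
  · rw [MulAction.mem_stabilizer_iff, mul_smul, mul_smul, MulAction.mem_stabilizer_iff.1 hd.2, tta hS]
  · rw [MulAction.mem_stabilizer_iff, mul_smul, mul_smul, tta hS, MulAction.mem_stabilizer_iff.1 hd.1]

theorem form_unique {g g' h h' f f' : G} (hg : g ∈ Q) (hg' : g' ∈ Q)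
    (hh : h ∈ MulAction.stabilizer G a ⊓ MulAction.stabilizer G (t • a))
    (hh' : h' ∈ MulAction.stabilizer G a ⊓ MulAction.stabilizer G (t • a))
    (hf : f ∈ Q) (hf' : f' ∈ Q) (e : g * h * t * f = g' * h' * t * f') : g = g' ∧ h = h' ∧ f = f' := by
  have hk : (t * f' * f⁻¹ * t) • a = a := by
    have e1 : t * f' * f⁻¹ * t = (g' * h')⁻¹ * (g * h) := by
      calc t * f' * f⁻¹ * t = (g' * h')⁻¹ * (g' * h' * t * f') * f⁻¹ * t := by group
        _ = (g' * h')⁻¹ * (g * h) * (t * t) := by rw [← e]; group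
        _ = _ := by rw [hS.mul_self, mul_one]
    rw [e1]
    exact MulAction.mem_stabilizer_iff.1
      (mul_mem (inv_mem (mul_mem (hS.le hg') hh'.1)) (mul_mem (hS.le hg) hh.1))
  have hff : f' * f⁻¹ = 1 := by
    refine fixes_only hS (mul_mem hf' (inv_mem hf)) (ta_ne hS) ?_
    rw [mul_assoc, mul_assoc, mul_smul, ← mul_assoc, mul_smul (f' * f⁻¹)] at hk
    calc (f' * f⁻¹) • t • a = t • t • ((f' * f⁻¹) • t • a) := by rw [← mul_smul t t, hS.mul_self, one_smul]
      _ = t • a := by rw [hk]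
  have hff' : f' = f := mul_inv_eq_one.1 hff
  subst hff'
  have e2 : g * h = g' * h' := mul_right_cancel (mul_right_cancel e)
  have h1 : g'⁻¹ * g ∈ Q ⊓ MulAction.stabilizer G (t • a) := by
    refine Subgroup.mem_inf.2 ⟨mul_mem (inv_mem hg') hg, ?_⟩
    have : g'⁻¹ * g = h' * h⁻¹ := by
      calc g'⁻¹ * g = g'⁻¹ * (g * h) * h⁻¹ := by group
        _ = h' * h⁻¹ := by rw [e2]; group
    rw [this]; exact mul_mem hh'.2 (inv_mem hh.2)
  rw [hS.inf_eq_bot, Subgroup.mem_bot, inv_mul_eq_one] at h1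
  subst h1
  exact ⟨rfl, mul_left_cancel e2, rfl⟩

theorem exists_ne_one_Q [Finite G] : ∃ x ∈ Q, x ≠ 1 := by
  by_contra hc
  simp only [not_exists, not_and, not_not] at hc
  have hbot : Q = ⊥ := (Subgroup.eq_bot_iff_forall Q).2 hc
  have := hS.even_card
  rw [hbot, Subgroup.card_bot] at this
  exact absurd this (by decide)

theorem conj_stays {x g : G} (hx : x ∈ Q) (hx1 : x ≠ 1) (hm : g * x * g⁻¹ ∈ MulAction.stabilizer G a) :
    g ∈ MulAction.stabilizer G a := by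
  rw [MulAction.mem_stabilizer_iff] at hm ⊢
  by_contra hne
  refine hx1 (fixes_only hS hx (b := g⁻¹ • a) (fun e => hne ?_) ?_)
  · rw [inv_smul_eq_iff] at e; exact e.symm
  · rw [mul_smul, mul_smul] at hm
    rw [eq_inv_smul_iff]
    exact hm

end Cfsg.Agent.Recog
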