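import Cfsg.Agent.Lib.Recog.RankOneSetup
import Cfsg.Agent.S1119
import Cfsg.Agent.S1121
import Cfsg.Agent.S1124
import Mathlib.GroupTheory.Perm.Cycle.Type

/-!
The involutions in the split rank one set-up: unique fixed points, the bijection with the elements of
the two-point stabiliser inverted by `t`, and involutions centralising a subset fixing three points.
-/

set_option autoImplicit false

namespace Cfsg.Agent.Recog.RankOneInv

open Cfsg Cfsg.Agent.Recog

variable {G Ω : Type*} [Group G] [Finite G] [MulAction G Ω] {a : Ω} {t : G} {Q : Subgroup G}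
  (hS : IsRankOneSetup G Ω a t Q)
include hS

theorem inv_mem_Q {s : G} (hs : s ∈ MulAction.stabilizer G a) (hs2 : s * s = 1) : s ∈ Q := by
  obtain ⟨x, hx, d, hd, e⟩ := stab_eq hS s hs
  have h1 : d * d ∈ Q := by
    have h2 : d * d = (d * x * d⁻¹)⁻¹ * x⁻¹ * ((x * d) * (x * d)) := by group
    rw [← e, hs2, mul_one] at h2
    rw [h2]
    exact Q.mul_mem (Q.inv_mem (hS.conj_mem d hd.1 x hx)) (Q.inv_mem hx)
  have h3 : d * d = 1 := by
    have : d * d ∈ Q ⊓ MulAction.stabilizer G (t • a) := Subgroup.mem_inf.2 ⟨h1, mul_mem hd.2 hd.2⟩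
    rwa [hS.inf_eq_bot, Subgroup.mem_bot] at this
  have h4 : d = 1 := by
    by_contra hne
    have ho : orderOf d = 2 := orderOf_eq_prime (by rw [pow_two, h3]) hne
    exact Nat.not_even_iff_odd.2 hS.odd_card (even_iff_two_dvd.2 (ho ▸ Subgroup.orderOf_dvd_natCard _ hd))
  rw [e, h4, mul_one]; exact hx

theorem exists_inv : ∃ s : G, s ∈ Q ∧ s ≠ 1 ∧ s * s = 1 := by
  haveI : Fact (Nat.Prime 2) := ⟨Nat.prime_two⟩
  obtain ⟨⟨s, hs⟩, ho⟩ := exists_prime_orderOf_dvd_card' (G := Q) 2 (even_iff_two_dvd.1 hS.even_card)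
  refine ⟨s, hs, fun e => ?_, ?_⟩
  · subst e; rw [show (⟨1, hs⟩ : Q) = 1 from rfl, orderOf_one] at ho; omega
  · have := pow_orderOf_eq_one (⟨s, hs⟩ : Q)
    rw [ho, pow_two] at this
    exact congrArg Subtype.val this

/-- An involution fixes exactly one point. -/
theorem existsUnique_fixed {u : G} (hu1 : u ≠ 1) (hu2 : u * u = 1) : ∃! b : Ω, u • b = b := by
  obtain ⟨s, hs, hs1, hs2⟩ := exists_inv hS
  obtain ⟨g, hg⟩ := (Cfsg.Agent.S1121.result hS).2 s u hs1 hs2 hu1 hu2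
  refine ⟨g • a, ?_, fun b hb => ?_⟩
  · show u • g • a = g • a
    rw [← hg, mul_smul, mul_smul, inv_smul_smul, MulAction.mem_stabilizer_iff.1 (hS.le hs)]
  · by_contra hne
    refine hs1 (fixes_only hS hs (b := g⁻¹ • b) (fun e => hne (by rw [← e, smul_inv_smul])) ?_)
    have h : (g * s * g⁻¹) • b = b := by rw [hg]; exact hb
    rw [mul_smul, mul_smul] at h
    exact (eq_inv_smul_iff.2 h)

theorem fixed_eq {u : G} (hu1 : u ≠ 1) (hu2 : u * u = 1) {b c : Ω} (hb : u • b = b) (hc : u • c = c) : b = c :=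
  (existsUnique_fixed hS hu1 hu2).unique hb hc

theorem smul_fixed_of_commute {u x : G} (hu1 : u ≠ 1) (hu2 : u * u = 1) {b : Ω} (hb : u • b = b)
    (hc : x * u = u * x) : x • b = b :=
  (fixed_eq hS hu1 hu2 hb (by rw [← mul_smul, ← hc, mul_smul, hb])).symm

theorem conj_inv_ne {u g : G} (hu1 : u ≠ 1) (hu2 : u * u = 1) :
    g * u * g⁻¹ ≠ 1 ∧ (g * u * g⁻¹) * (g * u * g⁻¹) = 1 :=
  ⟨fun e => hu1 (conj_eq_one_iff.1 e), by
    calc (g * u * g⁻¹) * (g * u * g⁻¹) = g * (u * u) * g⁻¹ := by group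
      _ = 1 := by rw [hu2]; group⟩

/-- The structure equation. -/
theorem exists_struct : ∃ s r : G, s ∈ involutionsIn (MulAction.stabilizer G a : Set G) ∧ r ∈ Q ∧
    t * s * t = r⁻¹ * t * r := by
  obtain ⟨b, hb, -⟩ := existsUnique_fixed hS hS.ne_one hS.mul_self
  have hba : b ≠ a := fun e => ta_ne hS (e ▸ hb)
  obtain ⟨r, hr, hrb⟩ := transitive_Q hS hba
  have hc := conj_inv_ne hS (g := r⁻¹) hS.ne_one hS.mul_self
  rw [inv_inv] at hc
  refine ⟨t * (r⁻¹ * t * r) * t, r, ⟨?_, ?_, ?_⟩, hr, ?_⟩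
  · show t * (r⁻¹ * t * r) * t ∈ MulAction.stabilizer G a
    rw [MulAction.mem_stabilizer_iff, mul_smul, mul_smul, mul_smul, mul_smul, hrb, hb, ← hrb, inv_smul_smul, tta hS]
  · intro e
    apply hc.1
    calc r⁻¹ * t * r = (t * t) * (r⁻¹ * t * r) * (t * t) := by rw [hS.mul_self]; group
      _ = t * (t * (r⁻¹ * t * r) * t) * t := by group
      _ = 1 := by rw [e, mul_one, hS.mul_self]
  · calc t * (r⁻¹ * t * r) * t * (t * (r⁻¹ * t * r) * t) = t * (r⁻¹ * t * r) * (t * t) * (r⁻¹ * t * r) * t := by group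
      _ = t * ((r⁻¹ * t * r) * (r⁻¹ * t * r)) * t := by rw [hS.mul_self]; group
      _ = 1 := by rw [hc.2, mul_one, hS.mul_self]
  · calc t * (t * (r⁻¹ * t * r) * t) * t = (t * t) * (r⁻¹ * t * r) * (t * t) := by group
      _ = _ := by rw [hS.mul_self]; group

theorem struct_unique {s r s' r' : G} (hs : s ∈ involutionsIn (MulAction.stabilizer G a : Set G)) (hr : r ∈ Q)
    (e : t * s * t = r⁻¹ * t * r) (hs' : s' ∈ involutionsIn (MulAction.stabilizer G a : Set G)) (hr' : r' ∈ Q)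
    (e' : t * s' * t = r'⁻¹ * t * r') : s = s' ∧ r = r' := by
  have key : ∀ {s r : G}, s ∈ MulAction.stabilizer G a → t * s * t = r⁻¹ * t * r → t • (r • t • a) = r • t • a := by
    intro s r hs e
    have h : (t * s * t) • (t • a) = t • a := by
      rw [mul_smul, mul_smul, tta hS, MulAction.mem_stabilizer_iff.1 hs]
    rw [e, mul_smul, mul_smul] at h
    exact inv_smul_eq_iff.1 h
  have hb : r • t • a = r' • t • a := fixed_eq hS hS.ne_one hS.mul_self (key hs.1 e) (key hs'.1 e')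
  have hrr : r = r' := by
    have h := fixes_only hS (Q.mul_mem (Q.inv_mem hr') hr) (ta_ne hS) (by rw [mul_smul, hb, inv_smul_smul])
    exact (inv_mul_eq_one.1 h).symm
  subst hrr
  exact ⟨mul_left_cancel (mul_right_cancel (e.trans e'.symm)), rfl⟩

local notation "DD" => MulAction.stabilizer G a ⊓ MulAction.stabilizer G (t • a)

theorem D_inf_Q {x : G} (hxQ : x ∈ Q) (hxD : x ∈ DD) : x = 1 := by
  have : x ∈ Q ⊓ MulAction.stabilizer G (t • a) := Subgroup.mem_inf.2 ⟨hxQ, hxD.2⟩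
  rwa [hS.inf_eq_bot, Subgroup.mem_bot] at this

/-- The centralisers of `t` and of `s` in the two-point stabiliser coincide. -/
theorem centralizer_iff {s r : G} (hs : s ∈ involutionsIn (MulAction.stabilizer G a : Set G)) (hr : r ∈ Q)
    (e : t * s * t = r⁻¹ * t * r) {c : G} (hc : c ∈ DD) : c * t = t * c ↔ c * s = s * c := by
  obtain ⟨hsa, hs1, hs2⟩ := hs
  have hmain : ∀ d ∈ DD, d * (t * s * t) = (t * s * t) * d → d * r = r * d ∧ d * t = t * d := by
    intro d hd hcom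
    rw [e] at hcom
    have hw : (r * d * r⁻¹) * t = t * (r * d * r⁻¹) := by
      calc (r * d * r⁻¹) * t = r * (d * (r⁻¹ * t * r)) * r⁻¹ := by group
        _ = t * (r * d * r⁻¹) := by rw [hcom]; group
    have hwa : r * d * r⁻¹ ∈ MulAction.stabilizer G a := mul_mem (mul_mem (hS.le hr) hd.1) (inv_mem (hS.le hr))
    have hwD : r * d * r⁻¹ ∈ DD := by
      refine Subgroup.mem_inf.2 ⟨hwa, ?_⟩
      rw [MulAction.mem_stabilizer_iff, ← mul_smul, hw, mul_smul, MulAction.mem_stabilizer_iff.1 hwa]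
    have h1 : r * (d * r⁻¹ * d⁻¹) = 1 := by
      refine D_inf_Q hS (Q.mul_mem hr (hS.conj_mem d hd.1 _ (Q.inv_mem hr))) ?_
      rw [show r * (d * r⁻¹ * d⁻¹) = (r * d * r⁻¹) * d⁻¹ by group]
      exact Subgroup.mul_mem _ hwD (Subgroup.inv_mem _ hd)
    have h2 : d * r = r * d := by
      calc d * r = (r * (d * r⁻¹ * d⁻¹)) * (d * r) := by rw [h1, one_mul]
        _ = r * d := by group
    refine ⟨h2, ?_⟩
    have h3 : r * d * r⁻¹ = d := by rw [← h2, mul_inv_cancel_right]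
    rwa [h3] at hw
  constructor
  · intro hct
    obtain ⟨b, hb, -⟩ := existsUnique_fixed hS hS.ne_one hS.mul_self
    have hrc : (r * c * r⁻¹) * t = t * (r * c * r⁻¹) → c * (r⁻¹ * t * r) = (r⁻¹ * t * r) * c := fun h => by
      calc c * (r⁻¹ * t * r) = r⁻¹ * ((r * c * r⁻¹) * t) * r := by group
        _ = _ := by rw [h]; group
    have h2 : c * r = r * c := by
      have hfix : t • (r • t • a) = r • t • a := by
        have h : (t * s * t) • (t • a) = t • a := by rw [mul_smul, mul_smul, tta hS, MulAction.mem_stabilizer_iff.1 hsa]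
        rw [e, mul_smul, mul_smul] at h
        exact inv_smul_eq_iff.1 h
      have hcb : c • (r • t • a) = r • t • a := smul_fixed_of_commute hS hS.ne_one hS.mul_self hfix hct
      have h1 : (c * r * c⁻¹) • (t • a) = r • t • a := by
        rw [mul_smul, mul_smul, MulAction.mem_stabilizer_iff.1 (inv_mem hc.2), hcb]
      have h := fixes_only hS (Q.mul_mem (Q.inv_mem hr) (hS.conj_mem c hc.1 r hr)) (ta_ne hS)
        (by rw [mul_smul, h1, inv_smul_smul])
      exact mul_inv_eq_iff_eq_mul.1 (inv_mul_eq_one.1 h).symm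
    have hcom := hrc (by rw [← h2, mul_inv_cancel_right]; exact hct)
    rw [← e] at hcom
    refine mul_right_cancel (b := t) (mul_left_cancel (a := t) ?_)
    calc t * (c * s * t) = (t * c) * s * t := by group
      _ = c * (t * s * t) := by rw [← hct]; group
      _ = (t * s) * (t * c) := by rw [hcom]; group
      _ = t * (s * c * t) := by rw [← hct]; group
  · intro hcs
    have hd := mem_D_conj hS hc
    have hcom : (t * c * t) * (t * s * t) = (t * s * t) * (t * c * t) := by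
      calc (t * c * t) * (t * s * t) = t * c * (t * t) * s * t := by group
        _ = t * (c * s) * t := by rw [hS.mul_self]; group
        _ = t * s * (t * t) * c * t := by rw [hcs, hS.mul_self]; group
        _ = _ := by group
    have h := (hmain _ hd hcom).2
    calc c * t = (t * t) * c * (t * t) * t := by rw [hS.mul_self]; group
      _ = t * ((t * c * t) * t) * t := by group
      _ = t * (t * (t * c * t)) * t := by rw [h]
      _ = (t * t) * t * c * (t * t) := by group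
      _ = t * c := by rw [hS.mul_self]; group

theorem mem_invertedBy {k : G} : k ∈ invertedBy DD t ↔ k ∈ DD ∧ t * k * t = k⁻¹ := by
  show (k ∈ DD ∧ t * k * t⁻¹ = k⁻¹) ↔ _
  rw [t_inv hS]

/-- As many elements inverted by `t` as involutions in the point stabiliser. -/
theorem card_inverted : Nat.card (invertedBy DD t) = Nat.card (involutionsIn (MulAction.stabilizer G a : Set G)) := by
  let J := {u : G // u ≠ 1 ∧ u * u = 1 ∧ u • a = t • a}
  have h1 : Nat.card (invertedBy DD t) = Nat.card J := by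
    refine Nat.card_congr
      { toFun := fun k => ⟨t * (k : G), fun e => ?_, ?_, ?_⟩
        invFun := fun u => ⟨t * (u.1 : G), ?_⟩
        left_inv := fun k => Subtype.ext (by show t * (t * (k : G)) = k; rw [← mul_assoc, hS.mul_self, one_mul])
        right_inv := fun u => Subtype.ext (by show t * (t * (u.1 : G)) = u.1; rw [← mul_assoc, hS.mul_self, one_mul]) }
    · have hk : t • a = a := by
        conv_lhs => rw [← MulAction.mem_stabilizer_iff.1 ((mem_invertedBy hS).1 k.2).1.1, ← mul_smul, e, one_smul]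
      exact ta_ne hS hk
    · rw [← mul_assoc, ((mem_invertedBy hS).1 k.2).2, inv_mul_cancel]
    · rw [mul_smul, MulAction.mem_stabilizer_iff.1 ((mem_invertedBy hS).1 k.2).1.1]
    · obtain ⟨u, hu1, hu2, hua⟩ := u
      have hut : u • t • a = a := by rw [← hua, ← mul_smul, hu2, one_smul]
      refine (mem_invertedBy hS).2 ⟨Subgroup.mem_inf.2 ⟨?_, ?_⟩, ?_⟩
      · rw [MulAction.mem_stabilizer_iff, mul_smul, hua, tta hS]
      · rw [MulAction.mem_stabilizer_iff, mul_smul, hut]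
      · rw [← mul_assoc, hS.mul_self, one_mul]
        exact eq_inv_of_mul_eq_one_left (by
          calc u * t * (t * u) = u * (t * t) * u := by group
            _ = 1 := by rw [hS.mul_self, mul_one, hu2])
  let M := {u : G // u ≠ 1 ∧ u * u = 1 ∧ u • a ≠ a}
  have h2 : Nat.card M = Nat.card Q * Nat.card J := by
    rw [← Nat.card_prod]
    refine (Nat.card_congr (Equiv.ofBijective (fun q : Q × J => (⟨(q.1 : G) * q.2.1 * (q.1 : G)⁻¹,
      (conj_inv_ne hS q.2.2.1 q.2.2.2.1).1, (conj_inv_ne hS q.2.2.1 q.2.2.2.1).2, ?_⟩ : M)) ⟨?_, ?_⟩)).symm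
    · rw [mul_smul, mul_smul, MulAction.mem_stabilizer_iff.1 (inv_mem (hS.le q.1.2)), q.2.2.2.2]
      intro e
      exact ta_ne hS (by rw [← inv_smul_smul (q.1 : G) (t • a), e, MulAction.mem_stabilizer_iff.1 (inv_mem (hS.le q.1.2))])
    · rintro ⟨⟨x, hx⟩, ⟨u, hu⟩⟩ ⟨⟨y, hy⟩, ⟨w, hw⟩⟩ h
      have h' : x * u * x⁻¹ = y * w * y⁻¹ := congrArg Subtype.val h
      have hxy : x = y := by
        have e1 : (x * u * x⁻¹) • a = (y * w * y⁻¹) • a := by rw [h']
        rw [mul_smul, mul_smul, mul_smul, mul_smul, MulAction.mem_stabilizer_iff.1 (inv_mem (hS.le hx)),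
          MulAction.mem_stabilizer_iff.1 (inv_mem (hS.le hy)), hu.2.2, hw.2.2] at e1
        exact (inv_mul_eq_one.1 (fixes_only hS (Q.mul_mem (Q.inv_mem hy) hx) (ta_ne hS)
          (by rw [mul_smul, e1, inv_smul_smul]))).symm
      subst hxy
      exact Prod.ext rfl (Subtype.ext (mul_left_cancel (mul_right_cancel h')))
    · rintro ⟨u, hu1, hu2, hua⟩
      obtain ⟨x, hx, e⟩ := transitive_Q hS hua
      have hc := conj_inv_ne hS (g := x⁻¹) hu1 hu2
      rw [inv_inv] at hc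
      refine ⟨(⟨x, hx⟩, ⟨x⁻¹ * u * x, hc.1, hc.2, ?_⟩), Subtype.ext (by show x * (x⁻¹ * u * x) * x⁻¹ = u; group)⟩
      rw [mul_smul, mul_smul, MulAction.mem_stabilizer_iff.1 (hS.le hx), ← e, inv_smul_smul]
  have h3 : Nat.card M = Nat.card Q * Nat.card (involutionsIn (MulAction.stabilizer G a : Set G)) := by
    rw [← Nat.card_prod]
    refine (Nat.card_congr (Equiv.ofBijective (fun q : Q × involutionsIn (MulAction.stabilizer G a : Set G) =>
      (⟨((q.1 : G) * t) * (q.2 : G) * ((q.1 : G) * t)⁻¹, (conj_inv_ne hS q.2.2.2.1 q.2.2.2.2).1,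
        (conj_inv_ne hS q.2.2.2.1 q.2.2.2.2).2, ?_⟩ : M)) ⟨?_, ?_⟩)).symm
    · intro e
      obtain ⟨⟨x, hx⟩, ⟨s, hs, hs1, hs2⟩⟩ := q
      have hb : ((x * t) * s * (x * t)⁻¹) • (x • t • a) = x • t • a := by
        rw [← mul_smul x t, mul_smul, mul_smul, inv_smul_smul, MulAction.mem_stabilizer_iff.1 hs]
      have := fixed_eq hS (conj_inv_ne hS hs1 hs2).1 (conj_inv_ne hS hs1 hs2).2 hb e
      exact ta_ne hS (by rw [← inv_smul_smul x (t • a), this, MulAction.mem_stabilizer_iff.1 (inv_mem (hS.le hx))])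
    · rintro ⟨⟨x, hx⟩, ⟨s, hs⟩⟩ ⟨⟨y, hy⟩, ⟨w, hw⟩⟩ h
      have h' : (x * t) * s * (x * t)⁻¹ = (y * t) * w * (y * t)⁻¹ := congrArg Subtype.val h
      have hb : ((x * t) * s * (x * t)⁻¹) • (x • t • a) = x • t • a := by
        rw [← mul_smul x t, mul_smul, mul_smul, inv_smul_smul, MulAction.mem_stabilizer_iff.1 hs.1]
      have hb' : ((y * t) * w * (y * t)⁻¹) • (y • t • a) = y • t • a := by
        rw [← mul_smul y t, mul_smul, mul_smul, inv_smul_smul, MulAction.mem_stabilizer_iff.1 hw.1]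
      rw [← h'] at hb'
      have e1 := fixed_eq hS (conj_inv_ne hS hs.2.1 hs.2.2).1 (conj_inv_ne hS hs.2.1 hs.2.2).2 hb hb'
      have hxy : x = y := (inv_mul_eq_one.1 (fixes_only hS (Q.mul_mem (Q.inv_mem hy) hx) (ta_ne hS)
          (by rw [mul_smul, e1, inv_smul_smul]))).symm
      subst hxy
      exact Prod.ext rfl (Subtype.ext (mul_left_cancel (mul_right_cancel h')))
    · rintro ⟨u, hu1, hu2, hua⟩
      obtain ⟨b, hb, -⟩ := existsUnique_fixed hS hu1 hu2
      obtain ⟨x, hx, e⟩ := transitive_Q hS (b := b) (fun eb => hua (eb ▸ hb))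
      have hc := conj_inv_ne hS (g := (x * t)⁻¹) hu1 hu2
      rw [inv_inv] at hc
      refine ⟨(⟨x, hx⟩, ⟨(x * t)⁻¹ * u * (x * t), ?_, hc.1, hc.2⟩),
        Subtype.ext (by show (x * t) * ((x * t)⁻¹ * u * (x * t)) * (x * t)⁻¹ = u; group)⟩
      show (x * t)⁻¹ * u * (x * t) ∈ MulAction.stabilizer G a
      rw [MulAction.mem_stabilizer_iff, mul_smul, mul_smul, mul_smul x t, e, hb, inv_smul_eq_iff, mul_smul, e]
  rw [h1]
  exact Nat.eq_of_mul_eq_mul_left Nat.card_pos (h2.symm.trans h3)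

theorem eq_one_of_conj_inv {g c : G} (hg : g ∈ DD) (hc : c ∈ DD) (h : g * c * g⁻¹ = c⁻¹) : c = 1 := by
  obtain ⟨j, hj⟩ : Odd (orderOf g) := Odd.of_dvd_nat hS.odd_card (Subgroup.orderOf_dvd_natCard _ hg)
  have h2 : (g * g) * c * (g * g)⁻¹ = c := by
    calc (g * g) * c * (g * g)⁻¹ = g * (g * c * g⁻¹) * g⁻¹ := by group
      _ = g * c⁻¹ * g⁻¹ := by rw [h]
      _ = (g * c * g⁻¹)⁻¹ := by group
      _ = c := by rw [h, inv_inv]
  have hcg : Commute (g * g) c := mul_inv_eq_iff_eq_mul.1 h2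
  have hg' : g = (g * g) ^ (j + 1) := by
    rw [← pow_two, ← pow_mul, show 2 * (j + 1) = orderOf g + 1 by omega, pow_succ, pow_orderOf_eq_one, one_mul]
  have h3 : c⁻¹ = c := by
    rw [← h, hg', (hcg.pow_left (j + 1)).eq, mul_inv_cancel_right]
  by_contra hne
  have ho : orderOf c = 2 := orderOf_eq_prime (by rw [pow_two]; nth_rewrite 1 [← h3]; exact inv_mul_cancel c) hne
  exact Nat.not_even_iff_odd.2 hS.odd_card (even_iff_two_dvd.2 (ho ▸ Subgroup.orderOf_dvd_natCard _ hc))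

theorem conj_mem_involutionsIn {k s : G} (hk : k ∈ MulAction.stabilizer G a)
    (hs : s ∈ involutionsIn (MulAction.stabilizer G a : Set G)) :
    k⁻¹ * s * k ∈ involutionsIn (MulAction.stabilizer G a : Set G) := by
  have h := conj_inv_ne hS (g := k⁻¹) hs.2.1 hs.2.2
  rw [inv_inv] at h
  exact ⟨mul_mem (mul_mem (inv_mem hk) hs.1) hk, h.1, h.2⟩

theorem inverted_inj_aux {s r : G} (hs : s ∈ involutionsIn (MulAction.stabilizer G a : Set G)) (hr : r ∈ Q)
    (e : t * s * t = r⁻¹ * t * r) {k₁ k k' : G} (hk₁ : k₁ ∈ invertedBy DD t) (hk : k ∈ invertedBy DD t)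
    (hk' : k' ∈ invertedBy DD t) (h : k⁻¹ * (k₁⁻¹ * s * k₁) * k = k'⁻¹ * (k₁⁻¹ * s * k₁) * k') : k = k' := by
  obtain ⟨h1D, h1i⟩ := (mem_invertedBy hS).1 hk₁
  obtain ⟨hkD, hki⟩ := (mem_invertedBy hS).1 hk
  obtain ⟨hkD', hki'⟩ := (mem_invertedBy hS).1 hk'
  have hti := t_inv hS
  have hcD : k' * k⁻¹ ∈ DD := Subgroup.mul_mem _ hkD' (Subgroup.inv_mem _ hkD)
  have hc1 : k₁ * (k' * k⁻¹) * k₁⁻¹ ∈ DD := Subgroup.mul_mem _ (Subgroup.mul_mem _ h1D hcD) (Subgroup.inv_mem _ h1D)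
  have hcs : (k₁ * (k' * k⁻¹) * k₁⁻¹) * s = s * (k₁ * (k' * k⁻¹) * k₁⁻¹) := by
    calc (k₁ * (k' * k⁻¹) * k₁⁻¹) * s = k₁ * k' * (k⁻¹ * (k₁⁻¹ * s * k₁) * k) * k⁻¹ * k₁⁻¹ := by group
      _ = s * (k₁ * (k' * k⁻¹) * k₁⁻¹) := by rw [h]; group
  have hct := (centralizer_iff hS hs hr e hc1).2 hcs
  have hfix : t * (k₁ * (k' * k⁻¹) * k₁⁻¹) * t = k₁ * (k' * k⁻¹) * k₁⁻¹ := by
    rw [← hct, mul_assoc, hS.mul_self, mul_one]
  have hφ : t * (k' * k⁻¹) * t = k'⁻¹ * k := by
    calc t * (k' * k⁻¹) * t = (t * k' * t) * (t⁻¹ * k⁻¹ * t) := by group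
      _ = (t * k' * t) * (t * k * t)⁻¹ := by rw [mul_inv_rev, mul_inv_rev, hti]; group
      _ = k'⁻¹ * k := by rw [hki, hki', inv_inv]
  have h2 : t * (k₁ * (k' * k⁻¹) * k₁⁻¹) * t = k₁⁻¹ * (k'⁻¹ * k) * k₁ := by
    calc t * (k₁ * (k' * k⁻¹) * k₁⁻¹) * t = (t * k₁ * t) * (t⁻¹ * (k' * k⁻¹) * t⁻¹) * (t * k₁⁻¹ * t) := by group
      _ = (t * k₁ * t) * (t * (k' * k⁻¹) * t) * (t * k₁ * t)⁻¹ := by rw [mul_inv_rev, mul_inv_rev, hti]; group
      _ = k₁⁻¹ * (k'⁻¹ * k) * k₁ := by rw [h1i, hφ, inv_inv]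
  have h3 : (k * k₁ * k₁) * (k' * k⁻¹) * (k * k₁ * k₁)⁻¹ = (k' * k⁻¹)⁻¹ := by
    calc (k * k₁ * k₁) * (k' * k⁻¹) * (k * k₁ * k₁)⁻¹ = k * k₁ * (k₁ * (k' * k⁻¹) * k₁⁻¹) * k₁⁻¹ * k⁻¹ := by group
      _ = (k' * k⁻¹)⁻¹ := by rw [← hfix, h2]; group
  exact (mul_inv_eq_one.1 (eq_one_of_conj_inv hS (Subgroup.mul_mem _ (Subgroup.mul_mem _ hkD h1D) h1D) hcD h3)).symm

theorem one_mem_invertedBy : (1 : G) ∈ invertedBy DD t :=
  (mem_invertedBy hS).2 ⟨Subgroup.one_mem _, by rw [mul_one, hS.mul_self, inv_one]⟩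

/-- For each involution of the point stabiliser, the inverted elements give every involution once. -/
theorem conj_bijective {s : G} (hs : s ∈ involutionsIn (MulAction.stabilizer G a : Set G)) :
    Function.Bijective fun k : invertedBy DD t => (⟨(k : G)⁻¹ * s * k,
      conj_mem_involutionsIn hS ((mem_invertedBy hS).1 k.2).1.1 hs⟩ : involutionsIn (MulAction.stabilizer G a : Set G)) := by
  obtain ⟨s₀, r, hs₀, hr, e⟩ := exists_struct hS
  have hb : Function.Bijective fun k : invertedBy DD t => (⟨(k : G)⁻¹ * s₀ * k,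
      conj_mem_involutionsIn hS ((mem_invertedBy hS).1 k.2).1.1 hs₀⟩ : involutionsIn (MulAction.stabilizer G a : Set G)) :=
    (Nat.bijective_iff_injective_and_card _).2 ⟨fun k k' h => Subtype.ext (inverted_inj_aux hS hs₀ hr e
      (one_mem_invertedBy hS) k.2 k'.2 (by simpa using congrArg Subtype.val h)), card_inverted hS⟩
  obtain ⟨k₁, hk₁⟩ := hb.2 ⟨s, hs⟩
  have hk₁' : (k₁ : G)⁻¹ * s₀ * k₁ = s := congrArg Subtype.val hk₁
  refine (Nat.bijective_iff_injective_and_card _).2 ⟨fun k k' h => Subtype.ext (inverted_inj_aux hS hs₀ hr e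
    k₁.2 k.2 k'.2 ?_), card_inverted hS⟩
  rw [hk₁']
  exact congrArg Subtype.val h

theorem centralizer_commute {x : G} (hxQ : x ∈ Q) {d : G} (hd : d ∈ DD) (hfix : d • x • t • a = x • t • a) :
    d * x = x * d := by
  have h1 : (d * x * d⁻¹) • (t • a) = x • t • a := by
    rw [mul_smul, mul_smul, MulAction.mem_stabilizer_iff.1 (inv_mem hd.2), hfix]
  have h := fixes_only hS (Q.mul_mem (Q.inv_mem hxQ) (hS.conj_mem d hd.1 x hxQ)) (ta_ne hS)
    (by rw [mul_smul, h1, inv_smul_smul])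
  exact mul_inv_eq_iff_eq_mul.1 (inv_mul_eq_one.1 h).symm

/-- An involution swapping `a` and `t • a` and centralising a subset of the two-point stabiliser with
three fixed points. -/
theorem exists_swap {X : Set G} (hX : X ⊆ (DD : Set G))
    (h3 : ∃ b c d : Ω, b ≠ c ∧ b ≠ d ∧ c ≠ d ∧ ∀ x ∈ X, x • b = b ∧ x • c = c ∧ x • d = d) :
    ∃ u : G, u ≠ 1 ∧ u * u = 1 ∧ u • a = t • a ∧ ∀ x ∈ X, x * u = u * x := by
  obtain ⟨b, c, d, hbc, hbd, hcd, hfix⟩ := h3
  obtain ⟨e, hea, het, hef⟩ : ∃ e : Ω, e ≠ a ∧ e ≠ t • a ∧ ∀ x ∈ X, x • e = e := by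
    by_cases hb : b ≠ a ∧ b ≠ t • a
    · exact ⟨b, hb.1, hb.2, fun x hx => (hfix x hx).1⟩
    by_cases hc : c ≠ a ∧ c ≠ t • a
    · exact ⟨c, hc.1, hc.2, fun x hx => (hfix x hx).2.1⟩
    have hb' : b = a ∨ b = t • a := by tauto
    have hc' : c = a ∨ c = t • a := by tauto
    refine ⟨d, fun hd => ?_, fun hd => ?_, fun x hx => (hfix x hx).2.2⟩ <;>
      (rcases hb' with hb' | hb' <;> rcases hc' with hc' | hc' <;> simp_all)
  obtain ⟨x, hxQ, hxe⟩ := transitive_Q hS hea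
  have hx1 : x ≠ 1 := fun h => het (by rw [← hxe, h, one_smul])
  have hxc : ∀ y ∈ X, y * x = x * y := fun y hy => centralizer_commute hS hxQ (hX hy) (by rw [hxe]; exact hef y hy)
  have hnot : t * x * t ∉ MulAction.stabilizer G a := by
    intro h
    rw [MulAction.mem_stabilizer_iff, mul_smul, mul_smul] at h
    have h2 : x • t • a = t • a := by
      conv_rhs => rw [← h]
      rw [← mul_smul t t, hS.mul_self, one_smul]
    exact hx1 (fixes_only hS hxQ (ta_ne hS) h2)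
  obtain ⟨⟨p₁, f⟩, ⟨hp₁, hf, he⟩, -⟩ := (Cfsg.Agent.S1119.result hS).2.2.2.2 _ hnot
  obtain ⟨g, hg, h, hh, rfl⟩ := stab_eq hS p₁ hp₁
  have he' : t * x * t = g * h * t * f := he
  have hw : ∀ y ∈ X, y * (t * h) = (t * h) * y := by
    intro y hy
    have hyD : y ∈ DD := hX hy
    have hy' := mem_D_conj hS hyD
    have hgy : (t * y * t) * g * (t * y * t)⁻¹ ∈ Q := hS.conj_mem _ hy'.1 g hg
    have hfy : (t * y * t) * f * (t * y * t)⁻¹ ∈ Q := hS.conj_mem _ hy'.1 f hf
    have hh' : (t * y * t) * h * y⁻¹ ∈ DD := Subgroup.mul_mem _ (Subgroup.mul_mem _ hy' hh) (Subgroup.inv_mem _ hyD)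
    have hrep : t * x * t = ((t * y * t) * g * (t * y * t)⁻¹) * ((t * y * t) * h * y⁻¹) * t *
        ((t * y * t) * f * (t * y * t)⁻¹) := by
      calc t * x * t = t * (y * x * y⁻¹) * t := by rw [hxc y hy]; group
        _ = (t * y * t) * (t⁻¹ * x * t⁻¹) * (t * y⁻¹ * t) := by group
        _ = (t * y * t) * (t * x * t) * (t * y * t)⁻¹ := by rw [mul_inv_rev, mul_inv_rev, t_inv hS]; group
        _ = (t * y * t) * (g * h * t * f) * (t * y * t)⁻¹ := by rw [he']
        _ = _ := by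
          have htz : ∀ z : G, t * (t * z) = z := fun z => by rw [← mul_assoc, hS.mul_self, one_mul]
          simp [mul_assoc, mul_inv_rev, t_inv hS, htz]
    obtain ⟨-, h2, -⟩ := form_unique hS hg hgy hh hh' hf hfy (he'.symm.trans hrep)
    calc y * (t * h) = t * ((t * y * t) * h * y⁻¹) * y := by
          calc y * (t * h) = (t * t) * y * (t * h) := by rw [hS.mul_self, one_mul]
            _ = _ := by group
      _ = t * h * y := by rw [← h2]
  have hwa : (t * h) • a = t • a := by rw [mul_smul, MulAction.mem_stabilizer_iff.1 hh.1]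
  have hwt : (t * h) • (t • a) = a := by rw [mul_smul, MulAction.mem_stabilizer_iff.1 hh.2, tta hS]
  have hw2 : (t * h) * (t * h) ∈ DD := Subgroup.mem_inf.2
    ⟨by rw [MulAction.mem_stabilizer_iff, mul_smul, hwa, hwt],
     by rw [MulAction.mem_stabilizer_iff, mul_smul, hwt, hwa]⟩
  obtain ⟨j, hj⟩ : Odd (orderOf ((t * h) * (t * h))) :=
    Odd.of_dvd_nat hS.odd_card (Subgroup.orderOf_dvd_natCard _ hw2)
  have hsplit : (t * h) ^ orderOf ((t * h) * (t * h)) = (t * h) * ((t * h) * (t * h)) ^ j := by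
    rw [hj, pow_succ', pow_mul, pow_two]
  have hua : (t * h) ^ orderOf ((t * h) * (t * h)) • a = t • a := by
    rw [hsplit, mul_smul, MulAction.mem_stabilizer_iff.1 (pow_mem hw2.1 j), hwa]
  refine ⟨(t * h) ^ orderOf ((t * h) * (t * h)), fun h1 => ?_, ?_, hua, fun y hy => ?_⟩
  · rw [h1, one_smul] at hua
    exact ta_ne hS hua.symm
  · rw [← (Commute.refl (t * h)).mul_pow, pow_orderOf_eq_one]
  · exact (show Commute y (t * h) from hw y hy).pow_right _

end Cfsg.Agent.Recog.RankOneInv
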