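import Cfsg.Agent.Lib.Recog.RankOneInv
import Cfsg.Agent.S1125
import Cfsg.Agent.Lib.Solv.FpfNilpotent
import Cfsg.Agent.Lib.Solv.Misc

/-!
Consequences of a second commuting involution in the split rank one set-up: the elements inverted by
`t` act without fixed points, so the regular normal subgroup is nilpotent.
-/

set_option autoImplicit false

namespace Cfsg.Agent.Recog.RankOneFpf

open Cfsg Cfsg.Agent.Recog Cfsg.Agent.Recog.RankOneInv

variable {G Ω : Type*} [Group G] [Finite G] [MulAction G Ω] {a : Ω} {t : G} {Q : Subgroup G}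
  (hS : IsRankOneSetup G Ω a t Q)
include hS

local notation "DD" => MulAction.stabilizer G a ⊓ MulAction.stabilizer G (t • a)

/-- An involution interchanging `a` and `t • a` is conjugate to `t` by an inverted element. -/
theorem exists_sqrt_conj {u : G} (hu2 : u * u = 1) (hua : u • a = t • a) :
    ∃ k ∈ DD, t * k * t = k⁻¹ ∧ u = k⁻¹ * t * k := by
  have hut : u • t • a = a := by rw [← hua, ← mul_smul, hu2, one_smul]
  have hkD : t * u ∈ DD := Subgroup.mem_inf.2
    ⟨by rw [MulAction.mem_stabilizer_iff, mul_smul, hua, tta hS], by rw [MulAction.mem_stabilizer_iff, mul_smul, hut]⟩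
  have htz : ∀ z : G, t * (t * z) = z := fun z => by rw [← mul_assoc, hS.mul_self, one_mul]
  have hinv : t * (t * u) * t = (t * u)⁻¹ := by
    rw [htz, mul_inv_rev, t_inv hS, inv_eq_of_mul_eq_one_right hu2]
  obtain ⟨j, hj⟩ : Odd (orderOf (t * u)) := Odd.of_dvd_nat hS.odd_card (Subgroup.orderOf_dvd_natCard _ hkD)
  set k₁ := (t * u) ^ (j + 1) with hk₁
  have hsq : k₁ * k₁ = t * u := by
    rw [hk₁, ← pow_add, show j + 1 + (j + 1) = orderOf (t * u) + 1 by omega, pow_succ, pow_orderOf_eq_one, one_mul]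
  have hk₁i : t * k₁ * t = k₁⁻¹ := by
    have h := conj_pow (i := j + 1) (a := t) (b := t * u)
    rw [t_inv hS, hinv, inv_pow, ← hk₁] at h
    exact h.symm
  refine ⟨k₁, Subgroup.pow_mem _ hkD _, hk₁i, ?_⟩
  calc u = t * (k₁ * k₁) := by rw [hsq, htz]
    _ = (t * k₁ * t) * t * k₁ := by rw [mul_assoc (t * k₁) t t, hS.mul_self, mul_one, mul_assoc t k₁ k₁]
    _ = _ := by rw [hk₁i]

/-- An inverted element commuting with an involution of the point stabiliser is trivial. -/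
theorem eq_one_of_commute {x s : G} (hx : x ∈ invertedBy DD t)
    (hs : s ∈ involutionsIn (MulAction.stabilizer G a : Set G)) (h : x * s = s * x) : x = 1 := by
  have hinj := (conj_bijective hS hs).1 (a₁ := ⟨x, hx⟩) (a₂ := ⟨1, one_mem_invertedBy hS⟩) (Subtype.ext (by
    show x⁻¹ * s * x = (1 : G)⁻¹ * s * 1
    rw [mul_assoc, ← h]; group))
  exact congrArg Subtype.val hinj

theorem fixed_point_free {x : G} (hx : x ∈ invertedBy DD t) (hx1 : x ≠ 1) {y : G} (hy : y ∈ Q)
    (hc : y * x = x * y) : y = 1 := by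
  by_contra hy1
  have hxD := ((mem_invertedBy hS).1 hx).1
  have hxa : x • a = a := hxD.1
  have hxt : x • t • a = t • a := hxD.2
  have hX : ({x} : Set G) ⊆ (DD : Set G) := Set.singleton_subset_iff.2 hxD
  obtain ⟨-, hev, -⟩ := Cfsg.Agent.S1125.result hS {x} hX ⟨a, t • a, y • t • a, (ta_ne hS).symm,
    fun e => ta_ne hS (smul_left_cancel y ((e.symm).trans (MulAction.mem_stabilizer_iff.1 (hS.le hy)).symm)),
    fun e => hy1 (fixes_only hS hy (ta_ne hS) e.symm),
    fun z hz => by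
      rw [Set.mem_singleton_iff.1 hz]
      exact ⟨hxa, hxt, by rw [← mul_smul, ← hc, mul_smul, hxt]⟩⟩
  haveI : Fact (Nat.Prime 2) := ⟨Nat.prime_two⟩
  obtain ⟨⟨s, hs⟩, ho⟩ := exists_prime_orderOf_dvd_card' 2 (even_iff_two_dvd.1 hev)
  rw [Subgroup.orderOf_mk] at ho
  refine hx1 (eq_one_of_commute hS hx ⟨hS.le hs.2, fun e => ?_, ?_⟩ (Subgroup.mem_centralizer_iff.1 hs.1 x rfl))
  · rw [e, orderOf_one] at ho; omega
  · rw [← pow_two, ← ho, pow_orderOf_eq_one]

variable (h2 : ∃ x y : G, x ≠ 1 ∧ y ≠ 1 ∧ x ≠ y ∧ x * x = 1 ∧ y * y = 1 ∧ x * y = y * x)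
include h2

theorem exists_inverted_ne_one : ∃ k ∈ invertedBy DD t, k ≠ 1 := by
  obtain ⟨x, y, hx1, hy1, hxy, hxx, hyy, hc⟩ := h2
  obtain ⟨b, hb, -⟩ := existsUnique_fixed hS hx1 hxx
  have hyb : y • b = b := smul_fixed_of_commute hS hx1 hxx hb hc.symm
  haveI := hS.two_transitive
  haveI : MulAction.IsPretransitive G Ω := MulAction.isPretransitive_of_is_two_pretransitive
  obtain ⟨g, hg⟩ := MulAction.exists_smul_eq G b a
  have hmem : ∀ z : G, z ≠ 1 → z * z = 1 → z • b = b →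
      g * z * g⁻¹ ∈ involutionsIn (MulAction.stabilizer G a : Set G) := fun z hz1 hz2 hzb =>
    ⟨by
      show g * z * g⁻¹ ∈ MulAction.stabilizer G a
      rw [MulAction.mem_stabilizer_iff, mul_smul, mul_smul, ← hg, inv_smul_smul, hzb],
      (conj_inv_ne hS hz1 hz2).1, (conj_inv_ne hS hz1 hz2).2⟩
  obtain ⟨⟨k, hk⟩, hkeq⟩ := (conj_bijective hS (hmem x hx1 hxx hb)).2 ⟨_, hmem y hy1 hyy hyb⟩
  refine ⟨k, hk, fun h1 => hxy ?_⟩
  have he : k⁻¹ * (g * x * g⁻¹) * k = g * y * g⁻¹ := congrArg Subtype.val hkeq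
  rw [h1, inv_one, one_mul, mul_one] at he
  exact mul_left_cancel (mul_right_cancel he)

theorem nilpotent_Q : Group.IsNilpotent Q := by
  obtain ⟨k, hk, hk1⟩ := exists_inverted_ne_one hS h2
  obtain ⟨p, hp, hpd⟩ := Nat.exists_prime_and_dvd (fun e => hk1 (orderOf_eq_one_iff.1 e))
  obtain ⟨hkD, hki⟩ := (mem_invertedBy hS).1 hk
  set x := k ^ (orderOf k / p)
  have hxo : orderOf x = p := orderOf_pow_orderOf_div (orderOf_pos k).ne' hpd
  have hxi : x ∈ invertedBy DD t := by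
    refine (mem_invertedBy hS).2 ⟨Subgroup.pow_mem _ hkD _, ?_⟩
    have h := conj_pow (i := orderOf k / p) (a := t) (b := k)
    rw [t_inv hS, hki, inv_pow] at h
    exact h.symm
  have hx1 : x ≠ 1 := fun e => hp.ne_one (by rw [← hxo, e, orderOf_one])
  have hxa : x ∈ MulAction.stabilizer G a := ((mem_invertedBy hS).1 hxi).1.1
  let φ : Q ≃* Q :=
    { toFun := fun q => ⟨x * q * x⁻¹, hS.conj_mem x hxa q q.2⟩
      invFun := fun q => ⟨x⁻¹ * q * x, by simpa using hS.conj_mem x⁻¹ (inv_mem hxa) q q.2⟩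
      left_inv := fun q => Subtype.ext (by show x⁻¹ * (x * q * x⁻¹) * x = q; group)
      right_inv := fun q => Subtype.ext (by show x * (x⁻¹ * q * x) * x⁻¹ = q; group)
      map_mul' := fun q r => Subtype.ext (by show x * (q * r) * x⁻¹ = x * q * x⁻¹ * (x * r * x⁻¹); group) }
  refine Cfsg.Agent.Solv.isNilpotent_of_fpf (φ := φ) ?_ hp ?_
  · intro q hq
    have hq' : x * (q : G) * x⁻¹ = q := congrArg Subtype.val hq
    exact Subtype.ext (fixed_point_free hS hxi hx1 q.2 (mul_inv_eq_iff_eq_mul.1 hq').symm)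
  · intro q
    have hi : ∀ i, ((φ^[i] q : Q) : G) = x ^ i * q * (x ^ i)⁻¹ := by
      intro i
      induction i with
      | zero => simp
      | succ i ih =>
        rw [Function.iterate_succ_apply', pow_succ']
        show x * ((φ^[i] q : Q) : G) * x⁻¹ = _
        rw [ih]; group
    exact Subtype.ext (by rw [hi, ← hxo, pow_orderOf_eq_one]; group)

theorem involutions_central {s : G} (hs : s ∈ involutionsIn (MulAction.stabilizer G a : Set G)) :
    s ∈ Q ∧ ∀ x ∈ Q, s * x = x * s := by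
  refine ⟨inv_mem_Q hS hs.1 hs.2.2, ?_⟩
  haveI := nilpotent_Q hS h2
  haveI : Fact (Nat.Prime 2) := ⟨Nat.prime_two⟩
  obtain ⟨P⟩ : Nonempty (Sylow 2 Q) := inferInstance
  haveI hPn : (P : Subgroup Q).Normal :=
    ((Group.isNilpotent_of_finite_tfae (G := Q)).out 0 3 rfl rfl).mp (by assumption) 2 inferInstance P
  have hne := Cfsg.Agent.Solv.inf_center_ne_bot (P : Subgroup Q)
    (P.ne_bot_of_dvd_card (even_iff_two_dvd.1 hS.even_card))
  obtain ⟨⟨z, hzP, hzc⟩, hz1⟩ := Subgroup.ne_bot_iff_exists_ne_one.1 hne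
  have hz1' : z ≠ 1 := fun e => hz1 (Subtype.ext e)
  obtain ⟨i, hi⟩ := P.2 ⟨z, hzP⟩
  have hi' : orderOf z ∣ 2 ^ i := orderOf_dvd_of_pow_eq_one (congrArg Subtype.val hi)
  obtain ⟨m, -, hm⟩ := (Nat.dvd_prime_pow Nat.prime_two).1 hi'
  have hev : 2 ∣ orderOf z := by
    rw [hm]
    refine dvd_pow_self 2 (fun h => hz1' ?_)
    rw [h, pow_zero] at hm
    exact orderOf_eq_one_iff.1 hm
  set w := z ^ (orderOf z / 2) with hwdef
  have hwo : orderOf w = 2 := orderOf_pow_orderOf_div (orderOf_pos z).ne' hev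
  have hwc : w ∈ Subgroup.center Q := Subgroup.pow_mem _ hzc _
  have hw2 : (w : G) * (w : G) = 1 :=
    congrArg Subtype.val (show w * w = 1 by rw [← pow_two, ← hwo, pow_orderOf_eq_one])
  have hw1 : (w : G) ≠ 1 := fun e => by
    have : w = 1 := Subtype.ext e
    rw [this, orderOf_one] at hwo; omega
  have hwI : (w : G) ∈ involutionsIn (MulAction.stabilizer G a : Set G) := ⟨hS.le w.2, hw1, hw2⟩
  obtain ⟨⟨k, hk⟩, hkeq⟩ := (conj_bijective hS hwI).2 ⟨s, hs⟩
  have he : k⁻¹ * (w : G) * k = s := congrArg Subtype.val hkeq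
  intro x hx
  have hkx : k * x * k⁻¹ ∈ Q := hS.conj_mem k ((mem_invertedBy hS).1 hk).1.1 x hx
  have h := congrArg Subtype.val (Subgroup.mem_center_iff.1 hwc ⟨_, hkx⟩)
  change k * x * k⁻¹ * (w : G) = (w : G) * (k * x * k⁻¹) at h
  rw [← he]
  calc k⁻¹ * (w : G) * k * x = k⁻¹ * ((w : G) * (k * x * k⁻¹)) * k := by group
    _ = x * (k⁻¹ * (w : G) * k) := by rw [← h]; group

theorem involutions_commute {s s' : G} (hs : s ∈ involutionsIn (MulAction.stabilizer G a : Set G))
    (hs' : s' ∈ involutionsIn (MulAction.stabilizer G a : Set G)) : s * s' * (s * s') = 1 := by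
  have hc := (involutions_central hS h2 hs).2 s' (involutions_central hS h2 hs').1
  calc s * s' * (s * s') = (s * s) * (s' * s') := by
        rw [mul_assoc, ← mul_assoc s' s s', ← hc]; group
    _ = 1 := by rw [hs.2.2, hs'.2.2, mul_one]

end Cfsg.Agent.Recog.RankOneFpf
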